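import Mathlib

/-! A determinant which is nonzero by the Cartier operator in top degree. -/

set_option autoImplicit false
set_option linter.style.haveILetI false
set_option linter.unusedSectionVars false

open Finset Equiv

namespace Groth.Agent.JacDet

universe u v

variable {k : Type u} {A : Type v} [CommRing k] [CommRing A] [Algebra k A]

theorem iterate_leibniz (D : Derivation k A A) (n : ℕ) (a b : A) :
    D^[n] (a * b) = ∑ m ∈ Finset.HasAntidiagonal.antidiagonal n, n.choose m.1 • (D^[m.1] a * D^[m.2] b) := by
  induction n with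
  | zero => simp
  | succ n ih =>
    rw [Finset.sum_antidiagonal_choose_succ_nsmul (fun i j => D^[i] a * D^[j] b), Function.iterate_succ_apply', ih,
      map_sum, ← Finset.sum_add_distrib]
    refine Finset.sum_congr rfl fun m hm => ?_
    rw [map_nsmul, D.leibniz, smul_add, smul_eq_mul, smul_eq_mul, Function.iterate_succ_apply',
      Function.iterate_succ_apply', Finset.HasAntidiagonal.mem_antidiagonal] at *
    subst hm
    rw [Nat.choose_symm_add]
    congr 1
    ring

/-- the `p`-th iterate of a derivation in characteristic `p` -/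
def powP (p : ℕ) [Fact p.Prime] [CharP A p] (D : Derivation k A A) : Derivation k A A :=
  Derivation.mk' ((D : A →ₗ[k] A) ^ p) fun a b => by
    classical
    simp only [Module.End.coe_pow]
    show D^[p] (a * b) = a • D^[p] b + b • D^[p] a
    rw [iterate_leibniz, ← Finset.sum_subset (s₁ := {(0, p), (p, 0)})]
    · rw [Finset.sum_pair (by simp [(Fact.out : p.Prime).ne_zero])]
      simp [mul_comm]
    · intro x hx; rcases Finset.mem_insert.1 hx with rfl | h
      · simp
      · rw [Finset.mem_singleton.1 h]; simp
    · intro x hx hx'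
      rw [Finset.HasAntidiagonal.mem_antidiagonal] at hx
      have h : p ∣ p.choose x.1 := (Fact.out : p.Prime).dvd_choose_self
        (fun h0 => hx' (by simp [Prod.ext_iff, h0] at hx ⊢; omega))
        (lt_of_le_of_ne (by omega) fun h0 => hx' (by simp [Prod.ext_iff, h0]; omega))
      rw [← Nat.cast_smul_eq_nsmul A, (CharP.cast_eq_zero_iff A p _).2 h, zero_smul]

theorem derivation_eq_zero {n : ℕ} (t : Fin n → A) (b : Module.Basis (Fin n) A (KaehlerDifferential k A))
    (hb : ∀ i, b i = KaehlerDifferential.D k A (t i)) (D : Derivation k A A) (h : ∀ i, D (t i) = 0) : D = 0 := by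
  have h1 : D.liftKaehlerDifferential = 0 := b.ext fun i => by
    rw [hb, Derivation.liftKaehlerDifferential_comp_D, h, LinearMap.zero_apply]
  ext a
  rw [← Derivation.liftKaehlerDifferential_comp_D D a, h1]
  rfl

theorem det_ne_zero (p : ℕ) [Fact p.Prime] [CharP A p] {n : ℕ} (t : Fin n → A)
    (b : Module.Basis (Fin n) A (KaehlerDifferential k A))
    (hb : ∀ i, b i = KaehlerDifferential.D k A (t i)) (f : Fin n → A) :
    (Matrix.of fun i j : Fin n =>
        (if i = j then t i ^ (p - 1) else 0) + b.coord j (KaehlerDifferential.D k A (f i))).det ≠ 0 := by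
  classical
  have hp := (Fact.out : p.Prime)
  haveI : Nontrivial A := CharP.nontrivial_of_char_ne_one (R := A) hp.ne_one
  let δ : Fin n → Derivation k A A := fun j => (b.coord j).compDer (KaehlerDifferential.D k A)
  have hδt : ∀ i j, δ j (t i) = if i = j then 1 else 0 := fun i j => by
    show b.coord j (KaehlerDifferential.D k A (t i)) = _
    rw [← hb, Module.Basis.coord_apply, Module.Basis.repr_self, Finsupp.single_apply]
  have hcomm : ∀ i j a, δ i (δ j a) = δ j (δ i a) := fun i j a => by
    have h := derivation_eq_zero t b hb ⁅δ i, δ j⁆ fun l => by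
      rw [Derivation.commutator_apply, hδt, hδt]
      split_ifs <;> simp
    have := congrFun (congrArg DFunLike.coe h) a
    rw [Derivation.commutator_apply] at this
    exact sub_eq_zero.1 this
  have hpow : ∀ j a, (δ j)^[p] a = 0 := fun j a => by
    have h := derivation_eq_zero t b hb (powP p (δ j)) fun l => by
      show ((δ j : A →ₗ[k] A) ^ p) (t l) = 0
      rw [Module.End.coe_pow]
      obtain ⟨q, hq⟩ : ∃ q, p = q + 2 := ⟨p - 2, by have := hp.two_le; omega⟩
      show (δ j)^[p] (t l) = 0
      rw [hq, Function.iterate_add_apply]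
      show (δ j)^[q] ((δ j) ((δ j) (t l))) = 0
      rw [hδt]
      split_ifs <;> simp
    have := congrFun (congrArg DFunLike.coe h) a
    have hc : ((δ j : A →ₗ[k] A) ^ p) a = 0 := this
    rwa [Module.End.coe_pow] at hc
  -- the iterated operator
  let op : Fin n → Module.End k A := fun j => ((δ j : A →ₗ[k] A)) ^ (p - 1)
  have hopc : ∀ i j, Commute (op i) (op j) := fun i j => by
    have h : Commute ((δ i : A →ₗ[k] A) : Module.End k A) (δ j : A →ₗ[k] A) := LinearMap.ext fun a => hcomm i j a
    exact h.pow_pow _ _
  have hP : ∀ s : Finset (Fin n), (s : Set (Fin n)).Pairwise (Function.onFun Commute op) :=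
    fun s i _ j _ _ => hopc i j
  let Δ : Finset (Fin n) → Module.End k A := fun s => s.noncommProd op (hP s)
  have hΔ : ∀ j a, Δ univ (δ j a) = 0 := fun j a => by
    show (univ.noncommProd op (hP univ)) (δ j a) = 0
    rw [← Finset.noncommProd_erase_mul _ (Finset.mem_univ j), Module.End.mul_apply,
      show op j (δ j a) = 0 by
        show ((δ j : A →ₗ[k] A) ^ (p - 1)) (δ j a) = 0
        rw [Module.End.coe_pow]
        show (δ j)^[p - 1] (δ j a) = 0
        rw [← Function.iterate_succ_apply, Nat.succ_eq_add_one, Nat.sub_add_cancel hp.one_le, hpow],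
      map_zero]
  -- closed rows
  let a₀ : Fin n → Fin n → A := fun i j => if i = j then t i ^ (p - 1) else 0
  let g : Fin n → Fin n → A := fun i j => δ j (f i)
  let Mx : Finset (Fin n) → Matrix (Fin n) (Fin n) A := fun s =>
    Matrix.of fun i j => if i ∈ s then a₀ i j + g i j else a₀ i j
  have hg : ∀ i x y, δ x (g i y) = δ y (g i x) := fun i x y => hcomm x y (f i)
  have ha : ∀ i x y, δ x (a₀ i y) = δ y (a₀ i x) := fun i x y => by
    have ht : ∀ z, i ≠ z → δ z (t i ^ (p - 1)) = 0 := fun z hz => by
      rw [Derivation.leibniz_pow, hδt, if_neg hz, smul_zero, smul_zero]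
    by_cases h : x = y
    · rw [h]
    · simp only [a₀]
      split_ifs with h1 h2 h2
      · exact absurd (h2.symm.trans h1) h
      · rw [map_zero]; exact ht x h2
      · rw [map_zero, ht y h1]
      · simp
  -- Piola
  have piola : ∀ (N : Fin n → Fin n → A) (i₀ : Fin n), (∀ i ≠ i₀, ∀ x y, δ x (N i y) = δ y (N i x)) →
      ∑ σ : Perm (Fin n), (Perm.sign σ : ℤ) • δ (σ i₀) (∏ i ∈ univ.erase i₀, N i (σ i)) = 0 := by
    intro N i₀ hN
    have hprod : ∀ (s : Finset (Fin n)) (z : Fin n) (F : Fin n → A),
        δ z (∏ i ∈ s, F i) = ∑ l ∈ s, (∏ i ∈ s.erase l, F i) * δ z (F l) := by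
      intro s z F
      induction s using Finset.induction_on with
      | empty => simp
      | insert c s hc ih =>
        rw [Finset.prod_insert hc, Derivation.leibniz, ih, Finset.sum_insert hc, Finset.erase_insert hc,
          smul_eq_mul, smul_eq_mul, Finset.mul_sum, add_comm]
        refine congrArg₂ (· + ·) rfl (Finset.sum_congr rfl fun l hl => ?_)
        have hcl : c ≠ l := fun h => hc (h ▸ hl)
        rw [Finset.erase_insert_of_ne hcl, Finset.prod_insert (fun h => hc (Finset.mem_of_mem_erase h)), mul_assoc]
    simp only [hprod, Finset.smul_sum]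
    rw [Finset.sum_comm]
    refine Finset.sum_eq_zero fun l hl => ?_
    have hne : l ≠ i₀ := Finset.ne_of_mem_erase hl
    have hcongr : ∀ σ : Perm (Fin n), ∏ i ∈ (univ.erase i₀).erase l, N i ((σ * Equiv.swap i₀ l) i) =
        ∏ i ∈ (univ.erase i₀).erase l, N i (σ i) := fun σ => Finset.prod_congr rfl fun i hi => by
      simp only [Finset.mem_erase] at hi
      rw [Perm.mul_apply, Equiv.swap_apply_of_ne_of_ne hi.2.1 hi.1]
    refine Finset.sum_involution (fun σ _ => σ * Equiv.swap i₀ l) (fun σ _ => ?_) (fun σ _ _ h => ?_)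
      (fun σ _ => Finset.mem_univ _) (fun σ _ => by rw [mul_assoc, Equiv.swap_mul_self, mul_one])
    · rw [hcongr, Perm.mul_apply, Perm.mul_apply, Equiv.swap_apply_left, Equiv.swap_apply_right, hN l hne (σ l) (σ i₀),
        Perm.sign_mul, Perm.sign_swap hne.symm, mul_neg_one, Units.val_neg, neg_smul, add_neg_cancel]
    · exact hne ((Equiv.swap_eq_one_iff.1 (mul_eq_left.1 h)).symm)
  have hrow : ∀ (N : Fin n → Fin n → A) (i₀ : Fin n) (φ : A), (∀ i ≠ i₀, ∀ x y, δ x (N i y) = δ y (N i x)) →
      (∀ y, N i₀ y = δ y φ) → Δ univ (Matrix.of N).det = 0 := by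
    intro N i₀ φ hN hi
    have h1 : (Matrix.of N).det =
        ∑ σ : Perm (Fin n), (Perm.sign σ : ℤ) • δ (σ i₀) (φ * ∏ i ∈ univ.erase i₀, N i (σ i)) := by
      have h2 := piola N i₀ hN
      rw [← Matrix.det_transpose, Matrix.det_apply']
      simp only [Derivation.leibniz, smul_eq_mul, smul_add, Finset.sum_add_distrib]
      rw [show ∑ σ : Perm (Fin n), (Perm.sign σ : ℤ) • (φ * δ (σ i₀) (∏ i ∈ univ.erase i₀, N i (σ i))) = 0 by
        simp only [← mul_smul_comm, ← Finset.mul_sum, h2, mul_zero], zero_add]
      refine Finset.sum_congr rfl fun σ _ => ?_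
      rw [← Finset.mul_prod_erase _ _ (Finset.mem_univ i₀), zsmul_eq_mul, ← hi]
      simp only [Matrix.transpose_apply, Matrix.of_apply]
      ring
    rw [h1, map_sum]
    exact Finset.sum_eq_zero fun σ _ => by rw [map_zsmul, hΔ, smul_zero]
  have hMx : ∀ s, Δ univ (Mx s).det = Δ univ (Mx ∅).det := by
    intro s
    induction s using Finset.induction_on with
    | empty => rfl
    | insert c s hc ih =>
      have hsplit : Mx (insert c s) = (Mx s).updateRow c (a₀ c + g c) := by
        ext i j
        by_cases h : i = c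
        · subst h; simp [Mx, Matrix.updateRow_self]
        · simp [Mx, Matrix.updateRow_ne h, h]
      have hold : (Mx s).updateRow c (a₀ c) = Mx s := by
        ext i j
        by_cases h : i = c
        · subst h; simp [Mx, Matrix.updateRow_self, hc]
        · simp [Matrix.updateRow_ne h]
      rw [hsplit, Matrix.det_updateRow_add, hold, map_add, ih]
      have h0 : Δ univ ((Mx s).updateRow c (g c)).det = 0 := by
        refine hrow (fun i j => (Mx s).updateRow c (g c) i j) c (f c) (fun i hi x y => ?_)
          (fun y => by simp [g, Matrix.updateRow_self])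
        simp only [Matrix.updateRow_ne hi, Mx, Matrix.of_apply]
        split_ifs
        · rw [map_add, map_add, ha, hg]
        · exact ha i x y
      rw [h0, add_zero]
  -- the diagonal
  have hopmul : ∀ (j : Fin n) (c x : A), δ j c = 0 → op j (c * x) = c * op j x := by
    intro j c x hc
    show ((δ j : A →ₗ[k] A) ^ (p - 1)) (c * x) = c * ((δ j : A →ₗ[k] A) ^ (p - 1)) x
    induction (p - 1) with
    | zero => simp
    | succ m ih =>
      rw [pow_succ', Module.End.mul_apply, Module.End.mul_apply, ih, Derivation.coeFn_coe, Derivation.leibniz, hc,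
        smul_zero, add_zero, smul_eq_mul]
  have hopt : ∀ j, op j (t j ^ (p - 1)) = ((p - 1).factorial : A) := by
    intro j
    show ((δ j : A →ₗ[k] A) ^ (p - 1)) (t j ^ (p - 1)) = _
    induction (p - 1) with
    | zero => simp
    | succ m ih =>
      rw [pow_succ, Module.End.mul_apply, Derivation.coeFn_coe, Derivation.leibniz_pow, hδt, if_pos rfl,
        smul_eq_mul, mul_one, map_nsmul, Nat.add_sub_cancel, ih, Nat.factorial_succ, nsmul_eq_mul, Nat.cast_mul]
  have hdiag : ∀ s : Finset (Fin n), Δ s (∏ j ∈ s, t j ^ (p - 1)) = ((p - 1).factorial : A) ^ s.card := by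
    intro s
    induction s using Finset.induction_on with
    | empty =>
      show ((∅ : Finset (Fin n)).noncommProd op (hP ∅)) _ = _
      rw [Finset.noncommProd_empty]; simp
    | insert c s hc ih =>
      have h0 : δ c (∏ j ∈ s, t j ^ (p - 1)) = 0 :=
        (Finset.prod_induction _ (fun x => δ c x = 0) (fun x y hx hy => by simp [hx, hy]) (by simp)
          fun j hj => by rw [Derivation.leibniz_pow, hδt, if_neg (fun h : j = c => hc (h ▸ hj)), smul_zero, smul_zero])
      show ((insert c s).noncommProd op (hP (insert c s))) _ = _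
      rw [Finset.noncommProd_insert_of_notMem' _ _ _ _ hc, Module.End.mul_apply, Finset.prod_insert hc, mul_comm,
        hopmul c _ _ h0, hopt, ← nsmul_eq_mul', map_nsmul]
      show (p - 1).factorial • Δ s _ = _
      rw [ih, nsmul_eq_mul, Finset.card_insert_of_notMem hc, pow_succ, mul_comm]
  intro h
  have hz := hMx univ
  have huniv : Mx univ = Matrix.of fun i j : Fin n =>
      (if i = j then t i ^ (p - 1) else 0) + b.coord j (KaehlerDifferential.D k A (f i)) := by
    ext i j; simp [Mx, a₀, g, δ]
  have hempty : Mx ∅ = Matrix.diagonal fun i => t i ^ (p - 1) := by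
    ext i j; simp [Mx, a₀, Matrix.diagonal]
  rw [huniv, h, map_zero, hempty, Matrix.det_diagonal, hdiag, ← Nat.cast_pow, eq_comm,
    CharP.cast_eq_zero_iff A p] at hz
  have := hp.dvd_factorial.1 (hp.dvd_of_dvd_pow hz)
  have := hp.one_le
  omega

end Groth.Agent.JacDet
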